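import Cfsg.Agent.H493.TW.Two

/-!
# S2452, `E₈(q)`: the form with a prescribed scalar (helper493)

`two_block_gl` : an invertible matrix `a` of size `2 + k`, `k ≥ 4`, such that `a - μ` has rank at least two for all
`μ`, is conjugate under `SL` to a matrix with leading block `1` and Schur complement different from a given scalar `κ`.
-/

set_option autoImplicit false

namespace Cfsg.Agent.H493.TW

open Module Submodule

section Lin

variable {K V : Type*} [Field K] [AddCommGroup V] [Module K V] [FiniteDimensional K V] {N : V →ₗ[K] V}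

/-- the plane can be chosen such that `(N - ν) V` is not contained in its image under `1 + N` -/
theorem exists_good_off (hn : 6 ≤ finrank K V) (ν : K) (hinj : ∀ v : V, v + N v = 0 → v = 0)
    (hν : ∀ μ : K, ∀ P : Submodule K V, finrank K P ≤ 1 → ¬ ∀ w, N w - μ • w ∈ P) :
    ∃ w₁ w₂ v : V, Good N w₁ w₂ ∧ N v - ν • v ∉ span K {w₁ + N w₁, w₂ + N w₂} := by
  obtain ⟨w₁, w₂, hg⟩ := exists_good (N := N) (by omega) fun μ _ => hν μ
  by_cases h : ∃ v, N v - ν • v ∉ span K {w₁ + N w₁, w₂ + N w₂}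
  · obtain ⟨v, hv⟩ := h
    exact ⟨w₁, w₂, v, hg, hv⟩
  push Not at h
  obtain ⟨hli, hg2⟩ := hg
  have hli' := LinearIndependent.pair_iff.1 hli
  obtain ⟨T, hT⟩ : ∃ T : V →ₗ[K] V, T = N - ν • LinearMap.id := ⟨_, rfl⟩
  have hTv : ∀ v, T v = N v - ν • v := fun v => by
    rw [hT, LinearMap.sub_apply, LinearMap.smul_apply, LinearMap.id_apply]
  obtain ⟨S, hS⟩ : ∃ S : Submodule K V, S = span K {w₁ + N w₁, w₂ + N w₂} := ⟨_, rfl⟩
  have hSf : finrank K S ≤ 2 := by rw [hS]; exact finrank_pair_le _ _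
  have hTS : LinearMap.range T ≤ S := by
    rintro _ ⟨v, rfl⟩
    rw [hTv, hS]
    exact h v
  have hr : 2 ≤ finrank K (LinearMap.range T) := by
    by_contra hlt
    exact hν ν (LinearMap.range T) (by omega) fun w => ⟨w, hTv w⟩
  have hRS : LinearMap.range T = S := eq_of_le_of_finrank_le hTS (by omega)
  have hSf2 : finrank K S = 2 := by rw [← hRS] at hSf ⊢; omega
  -- `S` is invariant
  have hNS : ∀ x ∈ S, N x ∈ S := by
    intro x hx
    have hx' := hx
    rw [← hRS] at hx
    obtain ⟨v, rfl⟩ := hx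
    have : N (T v) = T (N v) := by
      rw [hTv, hTv, map_sub, map_smul]
    rw [this, ← hRS]
    exact ⟨_, rfl⟩
  obtain ⟨A, hA⟩ : ∃ A : V →ₗ[K] V, A = LinearMap.id + N := ⟨_, rfl⟩
  have hAv : ∀ v, A v = v + N v := fun v => by rw [hA, LinearMap.add_apply, LinearMap.id_apply]
  have hAi : Function.Injective A := by
    rw [← LinearMap.ker_eq_bot, LinearMap.ker_eq_bot']
    intro v hv
    exact hinj v (by rw [← hAv, hv])
  have hAS : S.map A = S := by
    refine eq_of_le_of_finrank_eq ?_ (LinearEquiv.finrank_eq (S.equivMapOfInjective A hAi)).symm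
    rintro _ ⟨x, hx, rfl⟩
    rw [hAv]
    exact add_mem hx (hNS x hx)
  have hmem : ∀ w : V, w + N w ∈ S → w ∈ S := by
    intro w hw
    rw [← hAS] at hw
    obtain ⟨x, hx, hxw⟩ := hw
    rw [← hAv] at hxw
    rwa [← hAi hxw]
  have hw₁ : w₁ ∈ S := hmem _ (by rw [hS]; exact subset_span (by simp))
  have hw₂ : w₂ ∈ S := hmem _ (by rw [hS]; exact subset_span (by simp))
  have hWS : span K {w₁, w₂} = S := by
    refine eq_of_le_of_finrank_le (span_le.2 ?_) ?_
    · rintro x (rfl | rfl)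
      · exact hw₁
      · exact hw₂
    · have h1 := finrank_span_eq_card hli
      rw [Fintype.card_fin] at h1
      have h2 : Set.range ![w₁, w₂] = {w₁, w₂} := by
        ext x
        simp [eq_comm, or_comm]
      rw [h2] at h1
      omega
  -- `N` is zero on it
  have hz : ∀ w ∈ S, N w = 0 := by
    intro w hw
    have h1 := hNS w hw
    rw [← hWS, mem_span_pair] at hw h1
    obtain ⟨c, d, rfl⟩ := hw
    obtain ⟨a, b, hab⟩ := h1
    obtain ⟨rfl, rfl⟩ := hg2 a b c d (by rw [hab, map_add, map_smul, map_smul])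
    rw [← hab]; simp
  have hk := T.finrank_range_add_finrank_ker
  rw [hRS] at hk
  obtain ⟨e₁, he₁, he₁'⟩ : ∃ w ∈ LinearMap.ker T, w ∉ span K {w₁, w₂} := by
    by_contra hc
    push Not at hc
    have h4 := Submodule.finrank_mono (show LinearMap.ker T ≤ span K {w₁, w₂} from hc)
    have h5 := finrank_pair_le (K := K) w₁ w₂
    omega
  obtain ⟨e₂, he₂, he₂'⟩ : ∃ w ∈ LinearMap.ker T, w ∉ span K {w₁, w₂} ⊔ span K {e₁} := by
    by_contra hc
    push Not at hc
    have h4 := Submodule.finrank_mono (show LinearMap.ker T ≤ span K {w₁, w₂} ⊔ span K {e₁} from hc)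
    have h5 := finrank_pair_le (K := K) w₁ w₂
    have h6 := finrank_add_le_finrank_add_finrank (span K {w₁, w₂}) (span K {e₁})
    have h7 : finrank K (span K {e₁}) ≤ 1 := by
      have := finrank_span_finset_le_card (R := K) ({e₁} : Finset V)
      rw [Set.finrank, Finset.coe_singleton, Finset.card_singleton] at this
      exact this
    omega
  have hNe : ∀ e ∈ LinearMap.ker T, N e = ν • e := by
    intro e he
    rw [LinearMap.mem_ker, hTv, sub_eq_zero] at he
    exact he
  have hind : ∀ a b c d : K, a • w₁ + b • w₂ + c • e₁ + d • e₂ = 0 → (a = 0 ∧ b = 0) ∧ (c = 0 ∧ d = 0) := by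
    intro a b c d h0
    have hd : d = 0 := by
      by_contra hd
      apply he₂'
      have h1 : e₂ = (-(d⁻¹)) • (a • w₁ + b • w₂) + (-(d⁻¹ * c)) • e₁ := by
        have : e₂ = d⁻¹ • (d • e₂) := by rw [smul_smul, inv_mul_cancel₀ hd, one_smul]
        rw [this, show d • e₂ = (a • w₁ + b • w₂ + c • e₁ + d • e₂) - (a • w₁ + b • w₂) - c • e₁ by abel, h0]
        module
      rw [h1]
      exact add_mem (mem_sup_left (smul_mem _ _ (mem_span_pair.2 ⟨a, b, rfl⟩)))
        (mem_sup_right (smul_mem _ _ (mem_span_singleton_self e₁)))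
    rw [hd, zero_smul, add_zero] at h0
    have hc : c = 0 := by
      by_contra hc
      apply he₁'
      have h1 : e₁ = (-(c⁻¹)) • (a • w₁ + b • w₂) := by
        have : e₁ = c⁻¹ • (c • e₁) := by rw [smul_smul, inv_mul_cancel₀ hc, one_smul]
        rw [this, show c • e₁ = (a • w₁ + b • w₂ + c • e₁) - (a • w₁ + b • w₂) by abel, h0]
        module
      rw [h1]
      exact smul_mem _ _ (mem_span_pair.2 ⟨a, b, rfl⟩)
    rw [hc, zero_smul, add_zero] at h0
    exact ⟨hli' a b h0, hc, hd⟩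
  obtain ⟨v, hv⟩ : ∃ v, T v = w₁ := by
    rw [← hRS] at hw₁
    exact hw₁
  have hn₁ : N (w₁ + e₁) = ν • e₁ := by rw [map_add, hz _ hw₁, zero_add, hNe _ he₁]
  have hn₂ : N (w₂ + e₂) = ν • e₂ := by rw [map_add, hz _ hw₂, zero_add, hNe _ he₂]
  refine ⟨w₁ + e₁, w₂ + e₂, v, ⟨?_, ?_⟩, ?_⟩
  · rw [LinearIndependent.pair_iff]
    intro a b h0
    exact (hind a b a b (by rw [← h0]; module)).1
  · intro a b c d h0
    rw [hn₁, hn₂] at h0
    exact (hind a b (a - c * ν) (b - d * ν) (by
      have : a • w₁ + b • w₂ + (a - c * ν) • e₁ + (b - d * ν) • e₂ =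
        (a • (w₁ + e₁) + b • (w₂ + e₂)) - (c • ν • e₁ + d • ν • e₂) := by module
      rw [this, h0, sub_self])).1
  · rw [← hTv, hv, hn₁, hn₂, mem_span_pair]
    rintro ⟨a, b, h0⟩
    have h1 := hind (a - 1) b (a * (1 + ν)) (b * (1 + ν)) (by
      have : (a - 1) • w₁ + b • w₂ + (a * (1 + ν)) • e₁ + (b * (1 + ν)) • e₂ =
        (a • (w₁ + e₁ + ν • e₁) + b • (w₂ + e₂ + ν • e₂)) - w₁ := by module
      rw [this, h0, sub_self])
    have h2 : a = 1 := sub_eq_zero.1 h1.1.1
    have h3 : 1 + ν = 0 := by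
      have := h1.2.1
      rwa [h2, one_mul] at this
    have h4 : e₁ = 0 := by
      apply hinj
      rw [hNe _ he₁, show e₁ + ν • e₁ = (1 + ν) • e₁ by module, h3, zero_smul]
    apply he₁'
    rw [h4]
    exact zero_mem _

/-- the witness can be chosen outside `W + N W` -/
theorem exists_outside (hn : 5 ≤ finrank K V) {w₁ w₂ v : V} (T : V →ₗ[K] V) (S : Submodule K V) (h : T v ∉ S) :
    ∃ u, u ∉ span K {w₁, w₂} ⊔ span K {N w₁, N w₂} ∧ T u ∉ S := by
  obtain ⟨y, hy⟩ : ∃ y, y ∉ span K {w₁, w₂} ⊔ span K {N w₁, N w₂} := by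
    by_contra hc
    push Not at hc
    have h1 : span K {w₁, w₂} ⊔ span K {N w₁, N w₂} = ⊤ := eq_top_iff.2 fun x _ => hc x
    have h2 := finrank_add_le_finrank_add_finrank (span K {w₁, w₂}) (span K {N w₁, N w₂})
    rw [h1, finrank_top] at h2
    have h3 := finrank_pair_le (K := K) w₁ w₂
    have h4 := finrank_pair_le (K := K) (N w₁) (N w₂)
    omega
  by_cases hv : v ∈ span K {w₁, w₂} ⊔ span K {N w₁, N w₂}
  · by_cases hTy : T y ∈ S
    · refine ⟨v + y, fun hh => hy ?_, fun hh => h ?_⟩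
      · have := sub_mem hh hv
        rwa [add_sub_cancel_left] at this
      · rw [map_add] at hh
        have := sub_mem hh hTy
        rwa [add_sub_cancel_right] at this
    · exact ⟨y, hy, hTy⟩
  · exact ⟨v, hv, h⟩

/-- an adapted basis, with a given vector in the complement -/
theorem exists_basis_off {k : ℕ} (hV : finrank K V = 2 + k) {w₁ w₂ u : V} (h : Good N w₁ w₂)
    (hu : u ∉ span K {w₁, w₂} ⊔ span K {N w₁, N w₂}) :
    ∃ b : Basis (Fin 2 ⊕ Fin k) K V, b (Sum.inl 0) = w₁ ∧ b (Sum.inl 1) = w₂ ∧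
      (∀ i j : Fin 2, b.repr (N (b (Sum.inl i))) (Sum.inl j) = 0) ∧ ∀ j : Fin 2, b.repr u (Sum.inl j) = 0 := by
  obtain ⟨hli, hg⟩ := h
  let W : Submodule K V := span K (Set.range ![w₁, w₂])
  let bW : Basis (Fin 2) K W := Basis.span hli
  have hr : W = span K {w₁, w₂} := by
    change span K (Set.range ![w₁, w₂]) = _
    congr 1
    ext x
    simp [eq_comm, or_comm]
  have hw₁ : w₁ ∈ W := subset_span ⟨0, rfl⟩
  have hw₂ : w₂ ∈ W := subset_span ⟨1, rfl⟩
  have hmap : W.map N = span K {N w₁, N w₂} := by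
    rw [hr, map_span, Set.image_pair]
  have hdis : Disjoint W (W.map N ⊔ span K {u}) := by
    rw [Submodule.disjoint_def]
    intro x hx hx'
    rw [mem_sup] at hx'
    obtain ⟨p, hp, q, hq, hpq⟩ := hx'
    rw [mem_span_singleton] at hq
    obtain ⟨c, rfl⟩ := hq
    have hc0 : c = 0 := by
      by_contra hc
      apply hu
      have h1 : u = c⁻¹ • (x - p) := by
        rw [← hpq, add_sub_cancel_left, smul_smul, inv_mul_cancel₀ hc, one_smul]
      rw [h1]
      refine smul_mem _ _ (sub_mem (mem_sup_left ?_) (mem_sup_right ?_))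
      · rwa [← hr]
      · rwa [← hmap]
    rw [hc0, zero_smul, add_zero] at hpq
    rw [← hpq] at hx ⊢
    rw [hmap, mem_span_pair] at hp
    rw [hr, mem_span_pair] at hx
    obtain ⟨c, d, hcd⟩ := hp
    obtain ⟨a, b, hab⟩ := hx
    obtain ⟨rfl, rfl⟩ := hg a b c d (by rw [hab, hcd])
    rw [← hab]
    simp
  obtain ⟨U, hU, hc'⟩ := hdis.symm.exists_isCompl
  have hc : IsCompl W U := hc'.symm
  have hfW : finrank K W = 2 := by rw [Module.finrank_eq_card_basis bW, Fintype.card_fin]
  have hfU : finrank K U = k := by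
    have := Submodule.finrank_add_eq_of_isCompl hc
    omega
  let bU : Basis (Fin k) K U := finBasisOfFinrankEq K U hfU
  let b : Basis (Fin 2 ⊕ Fin k) K V := (bW.prod bU).map (prodEquivOfIsCompl W U hc)
  have hbl : ∀ i : Fin 2, b (Sum.inl i) = ![w₁, w₂] i := by
    intro i
    change (prodEquivOfIsCompl W U hc) ((bW.prod bU) (Sum.inl i)) = _
    have h1 : (bW.prod bU) (Sum.inl i) = (bW i, 0) := by
      ext <;> simp
    rw [h1, coe_prodEquivOfIsCompl']
    simp only [coe_zero, add_zero]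
    exact congrArg Subtype.val (Basis.span_apply hli i)
  have hrU : ∀ u ∈ U, ∀ j : Fin 2, b.repr u (Sum.inl j) = 0 := by
    intro u hu j
    change (bW.prod bU).repr ((prodEquivOfIsCompl W U hc).symm u) (Sum.inl j) = 0
    have h1 : (prodEquivOfIsCompl W U hc).symm u = (0, ⟨u, hu⟩) :=
      prodEquivOfIsCompl_symm_apply_right W U hc ⟨u, hu⟩
    rw [h1]
    simp
  refine ⟨b, hbl 0, hbl 1, fun i j => hrU _ (hU (mem_sup_left ?_)) j,
    fun j => hrU _ (hU (mem_sup_right (mem_span_singleton_self u))) j⟩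
  rw [hbl]
  refine mem_map_of_mem ?_
  fin_cases i
  · exact hw₁
  · exact hw₂

end Lin

section Mat

open Matrix

variable {K : Type*} [Field K] {k : ℕ}

theorem exists_scaled' {V : Type*} [AddCommGroup V] [Module K V] (hk : 0 < k) (s b : Basis (Fin 2 ⊕ Fin k) K V) :
    ∃ b' : Basis (Fin 2 ⊕ Fin k) K V, (∀ i : Fin 2, b' (Sum.inl i) = b (Sum.inl i)) ∧
      (∀ (v : V) (i : Fin 2), b'.repr v (Sum.inl i) = b.repr v (Sum.inl i)) ∧ (s.toMatrix b').det = 1 := by
  classical
  have hu : IsUnit (s.toMatrix b).det := by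
    have h := Basis.toMatrix_mul_toMatrix_flip s b
    exact IsUnit.of_mul_eq_one _ (by rw [← det_mul, h, det_one])
  let w : Fin 2 ⊕ Fin k → Kˣ := fun i => if i = Sum.inr ⟨0, hk⟩ then hu.unit⁻¹ else 1
  have hw : ∀ i : Fin 2, w (Sum.inl i) = 1 := fun i => if_neg (by simp)
  refine ⟨b.unitsSMul w, fun i => ?_, fun v i => ?_, ?_⟩
  · rw [Basis.unitsSMul_apply, hw, one_smul]
  · rw [Basis.repr_unitsSMul, hw, inv_one, one_smul]
  · have h1 : s.toMatrix (b.unitsSMul w) = s.toMatrix b * diagonal fun j => ((w j : Kˣ) : K) := by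
      ext i j
      rw [mul_diagonal, Basis.toMatrix_apply, Basis.toMatrix_apply, Basis.unitsSMul_apply, Units.smul_def,
        map_smul, Finsupp.smul_apply, smul_eq_mul, mul_comm]
    rw [h1, det_mul, det_diagonal]
    have h2 : ∏ i : Fin 2 ⊕ Fin k, ((w i : Kˣ) : K) = ((hu.unit⁻¹ : Kˣ) : K) := by
      rw [Finset.prod_eq_single (Sum.inr ⟨0, hk⟩)]
      · change (((if _ then _ else _ : Kˣ)) : K) = _
        rw [if_pos rfl]
      · intro i _ hi
        change (((if _ then _ else _ : Kˣ)) : K) = _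
        rw [if_neg hi, Units.val_one]
      · intro h
        exact absurd (Finset.mem_univ _) h
    rw [h2]
    exact hu.unit.mul_inv

/-- **A leading two by two block equal to `1`, Schur complement different from a given scalar.** -/
theorem two_block_gl (hk : 4 ≤ k) (a : Matrix (Fin 2 ⊕ Fin k) (Fin 2 ⊕ Fin k) K) (hdet : a.det ≠ 0) (κ : K)
    (hμ : ∀ μ : K, 2 ≤ (a - Matrix.scalar (Fin 2 ⊕ Fin k) μ).rank) :
    ∃ (S : Matrix.SpecialLinearGroup (Fin 2 ⊕ Fin k) K) (X : Matrix (Fin k) (Fin 2) K)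
      (Y : Matrix (Fin 2) (Fin k) K) (C : Matrix (Fin k) (Fin k) K),
        S.1 * a * (S⁻¹).1 = fromBlocks 1 0 X 1 * fromBlocks 1 0 0 C * fromBlocks 1 Y 0 1 ∧
          C.det = a.det ∧ C ≠ κ • (1 : Matrix (Fin k) (Fin k) K) := by
  classical
  let N : (Fin 2 ⊕ Fin k → K) →ₗ[K] (Fin 2 ⊕ Fin k → K) := toLin' (a - 1)
  have hNa : ∀ v, toLin' a v = v + N v := by
    intro v
    change toLin' a v = v + toLin' (a - 1) v
    rw [map_sub, toLin'_one, LinearMap.sub_apply, LinearMap.id_apply]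
    abel
  have hV : finrank K (Fin 2 ⊕ Fin k → K) = 2 + k := by
    rw [Module.finrank_fintype_fun_eq_card, Fintype.card_sum, Fintype.card_fin, Fintype.card_fin]
  have hinj : ∀ v, v + N v = 0 → v = 0 := by
    intro v hv
    rw [← hNa, toLin'_apply] at hv
    exact Matrix.eq_zero_of_mulVec_eq_zero hdet hv
  have hν : ∀ ν : K, ∀ P : Submodule K (Fin 2 ⊕ Fin k → K), finrank K P ≤ 1 → ¬ ∀ w, N w - ν • w ∈ P := by
    intro ν P hP h
    have h2 := hμ (1 + ν)
    have h3 : LinearMap.range (a - Matrix.scalar (Fin 2 ⊕ Fin k) (1 + ν)).mulVecLin ≤ P := by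
      rintro _ ⟨w, rfl⟩
      have h4 : (a - Matrix.scalar (Fin 2 ⊕ Fin k) (1 + ν)).mulVecLin w = N w - ν • w := by
        have h5 := hNa w
        rw [toLin'_apply] at h5
        rw [mulVecLin_apply, sub_mulVec, h5, Matrix.scalar_apply, ← smul_one_eq_diagonal, smul_mulVec, one_mulVec]
        module
      rw [h4]
      exact h w
    have h6 := Submodule.finrank_mono h3
    rw [Matrix.rank] at h2
    omega
  -- the plane
  obtain ⟨w₁, w₂, v, hg, hv⟩ := exists_good_off (N := N) (by omega) (κ - 1) hinj hν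
  obtain ⟨u, hu, hu'⟩ := exists_outside (N := N) (w₁ := w₁) (w₂ := w₂) (v := v) (by omega)
    (N - (κ - 1) • LinearMap.id) (span K {w₁ + N w₁, w₂ + N w₂})
    (by rwa [LinearMap.sub_apply, LinearMap.smul_apply, LinearMap.id_apply])
  obtain ⟨b₀, hb1, hb2, hb3, hb7⟩ := exists_basis_off hV hg hu
  let s := Pi.basisFun K (Fin 2 ⊕ Fin k)
  obtain ⟨b, hb4, hb5, hb6⟩ := exists_scaled' (by omega) s b₀
  have hb1' : b (Sum.inl 0) = w₁ := by rw [hb4, hb1]
  have hb2' : b (Sum.inl 1) = w₂ := by rw [hb4, hb2]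
  have hb3' : ∀ i j : Fin 2, b.repr (N (b (Sum.inl i))) (Sum.inl j) = 0 := by
    intro i j
    rw [hb5, hb4]
    exact hb3 i j
  have hb7' : ∀ j : Fin 2, b.repr u (Sum.inl j) = 0 := by
    intro j
    rw [hb5]
    exact hb7 j
  obtain ⟨M, hMd⟩ : ∃ M : Matrix (Fin 2 ⊕ Fin k) (Fin 2 ⊕ Fin k) K, M = LinearMap.toMatrix b b (toLin' a) :=
    ⟨_, rfl⟩
  have hPQ : b.toMatrix s * s.toMatrix b = 1 := Basis.toMatrix_mul_toMatrix_flip b s
  have hM : b.toMatrix s * a * s.toMatrix b = M := by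
    have h := basis_toMatrix_mul_linearMap_toMatrix_mul_basis_toMatrix (b := b) (b' := s) (c := b) (c' := s) (toLin' a)
    rw [hMd, ← h]
    congr 2
    exact (LinearMap.toMatrix'_toLin' a).symm
  have hPdet : (b.toMatrix s).det = 1 := by
    have h := congrArg det hPQ
    rw [det_mul, det_one] at h
    rwa [hb6, mul_one] at h
  obtain ⟨S, hS⟩ : ∃ S : Matrix.SpecialLinearGroup (Fin 2 ⊕ Fin k) K, S.1 = b.toMatrix s := ⟨⟨_, hPdet⟩, rfl⟩
  have hSinv : (S⁻¹).1 = s.toMatrix b := by
    have h1 : (S⁻¹).1 * S.1 = 1 := congrArg Subtype.val (inv_mul_cancel S)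
    calc _ = (S⁻¹).1 * (S.1 * s.toMatrix b) := by rw [hS, hPQ, Matrix.mul_one]
      _ = s.toMatrix b := by rw [← Matrix.mul_assoc, h1, Matrix.one_mul]
  have hMe : ∀ i j, M i j = b.repr (b j) i + b.repr (N (b j)) i := by
    intro i j
    rw [hMd, LinearMap.toMatrix_apply, hNa, map_add, Finsupp.add_apply]
  have h11 : M.toBlocks₁₁ = 1 := by
    ext i j
    rw [toBlocks₁₁, of_apply, hMe, hb3', add_zero, Basis.repr_self, Finsupp.single_apply, one_apply]
    by_cases h : i = j
    · subst h; simp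
    · rw [if_neg h, if_neg (fun hh => h (Sum.inl_injective hh).symm)]
  have hMb : M = fromBlocks 1 0 M.toBlocks₂₁ 1 * fromBlocks 1 0 0 (M.toBlocks₂₂ - M.toBlocks₂₁ * M.toBlocks₁₂) *
      fromBlocks 1 M.toBlocks₁₂ 0 1 := by
    rw [fromBlocks_multiply, fromBlocks_multiply]
    simp only [Matrix.mul_one, Matrix.one_mul, Matrix.mul_zero, Matrix.zero_mul, add_zero, zero_add]
    rw [← h11]
    rw [add_sub_cancel]
    exact (fromBlocks_toBlocks M).symm
  refine ⟨S, M.toBlocks₂₁, M.toBlocks₁₂,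
    M.toBlocks₂₂ - M.toBlocks₂₁ * M.toBlocks₁₂, ?_, ?_, ?_⟩
  · rw [hSinv, hS]
    exact hM.trans hMb
  · have hdM : M.det = a.det := by
      rw [← hM, det_mul, det_mul, hPdet, hb6, one_mul, mul_one]
    rw [hMb, det_mul, det_mul, det_fromBlocks_zero₁₂, det_fromBlocks_zero₁₂, det_fromBlocks_zero₂₁] at hdM
    simpa using hdM
  · intro hC1
    apply hu'
    have hst : ∀ j : Fin k, N (b (Sum.inr j)) - (κ - 1) • b (Sum.inr j) =
        ∑ i : Fin 2, M (Sum.inl i) (Sum.inr j) • (b (Sum.inl i) + N (b (Sum.inl i))) := by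
      intro j
      refine b.ext_elem fun r => ?_
      rw [map_sum, Finsupp.finsetSum_apply, map_sub, map_smul, Finsupp.sub_apply, Finsupp.smul_apply]
      rcases r with r | l
      · have h2 := hMe (Sum.inl r) (Sum.inr j)
        rw [Basis.repr_self, Finsupp.single_apply, if_neg (by simp), zero_add] at h2
        rw [← h2, Basis.repr_self, Finsupp.single_apply, if_neg (by simp), smul_zero, sub_zero,
          Finset.sum_eq_single r]
        · rw [map_smul, Finsupp.smul_apply, map_add, Finsupp.add_apply, hb3', Basis.repr_self, Finsupp.single_eq_same,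
            add_zero, smul_eq_mul, mul_one]
        · intro i _ hi
          rw [map_smul, Finsupp.smul_apply, map_add, Finsupp.add_apply, hb3', Basis.repr_self, Finsupp.single_apply,
            if_neg (fun hh => hi (Sum.inl_injective hh)), add_zero, smul_zero]
        · intro h
          exact absurd (Finset.mem_univ _) h
      · have h2 := hMe (Sum.inr l) (Sum.inr j)
        have h3 := congrFun (congrFun hC1 l) j
        rw [Matrix.sub_apply, toBlocks₂₂, of_apply, h2, mul_apply, Matrix.smul_apply, one_apply, Basis.repr_self,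
          Finsupp.single_apply] at h3
        have h4 : (if (Sum.inr j : Fin 2 ⊕ Fin k) = Sum.inr l then (1 : K) else 0) = if l = j then 1 else 0 := by
          by_cases h : l = j
          · subst h; simp
          · rw [if_neg h, if_neg (fun hh => h (Sum.inr_injective hh).symm)]
        rw [h4, smul_eq_mul] at h3
        rw [Basis.repr_self, Finsupp.single_apply, h4, smul_eq_mul]
        have h5 : b.repr (N (b (Sum.inr j))) (Sum.inr l) - (κ - 1) * (if l = j then 1 else 0) =
            ∑ i : Fin 2, M.toBlocks₂₁ l i * M.toBlocks₁₂ i j := by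
          linear_combination h3
        rw [h5]
        refine Finset.sum_congr rfl fun i _ => ?_
        rw [map_smul, Finsupp.smul_apply, map_add, Finsupp.add_apply, Basis.repr_self, Finsupp.single_apply,
          if_neg (by simp), zero_add, smul_eq_mul, mul_comm]
        have h6 := hMe (Sum.inr l) (Sum.inl i)
        rw [Basis.repr_self, Finsupp.single_apply, if_neg (by simp), zero_add] at h6
        rw [← h6]
        rfl
    have hmem : ∀ i : Fin 2, b (Sum.inl i) + N (b (Sum.inl i)) ∈ span K {w₁ + N w₁, w₂ + N w₂} := by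
      intro i
      apply subset_span
      fin_cases i
      · change b (Sum.inl 0) + N (b (Sum.inl 0)) ∈ _
        rw [hb1']; simp
      · change b (Sum.inl 1) + N (b (Sum.inl 1)) ∈ _
        rw [hb2']; simp
    have hsum : u = ∑ j : Fin k, b.repr u (Sum.inr j) • b (Sum.inr j) := by
      conv_lhs => rw [← b.sum_repr u, Fintype.sum_sum_type]
      rw [Finset.sum_eq_zero (fun i _ => by rw [hb7', zero_smul]), zero_add]
    rw [hsum, map_sum]
    refine sum_mem fun j _ => ?_
    rw [map_smul]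
    refine smul_mem _ _ ?_
    rw [LinearMap.sub_apply, LinearMap.smul_apply, LinearMap.id_apply, hst]
    exact sum_mem fun i _ => smul_mem _ _ (hmem i)

/-- the same for a matrix indexed by another type -/
theorem two_block_of_equiv {n : ℕ} (e : Fin 2 ⊕ Fin k ≃ Fin n) (hk : 4 ≤ k) (a : Matrix (Fin n) (Fin n) K)
    (hdet : a.det ≠ 0) (κ : K) (hμ : ∀ μ : K, 2 ≤ (a - Matrix.scalar (Fin n) μ).rank) :
    ∃ (S : Matrix.SpecialLinearGroup (Fin 2 ⊕ Fin k) K) (X : Matrix (Fin k) (Fin 2) K)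
      (Y : Matrix (Fin 2) (Fin k) K) (C : Matrix (Fin k) (Fin k) K),
        S.1 * a.submatrix e e * (S⁻¹).1 = fromBlocks 1 0 X 1 * fromBlocks 1 0 0 C * fromBlocks 1 Y 0 1 ∧
          C.det = a.det ∧ C ≠ κ • (1 : Matrix (Fin k) (Fin k) K) := by
  have h := two_block_gl hk (a.submatrix e e) (by rwa [det_submatrix_equiv_self]) κ fun μ => by
    have h1 : a.submatrix e e - Matrix.scalar (Fin 2 ⊕ Fin k) μ = (a - Matrix.scalar (Fin n) μ).submatrix e e := by
      ext i j
      simp [Matrix.scalar_apply, diagonal_apply, e.injective.eq_iff]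
    rw [h1, rank_submatrix]
    exact hμ μ
  rwa [det_submatrix_equiv_self] at h

end Mat

end Cfsg.Agent.H493.TW
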